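import Groth.Agent.Lib.PlaneCurve.Curve
import Groth.Agent.Lib.CurveFF.TwistDiv
import Groth.Agent.Lib.CurveFF.LineTensor
import Groth.Agent.Lib.CurveFF.Genus
import Groth.Agent.Lib.FunFld.SmallGenus

/-!
The linear series cut out by forms on a smooth plane curve.
-/

noncomputable section
set_option autoImplicit false
set_option backward.isDefEq.respectTransparency.types false
set_option linter.style.haveILetI false
universe u

open CategoryTheory CategoryTheory.Limits AlgebraicGeometry TopologicalSpace Opposite MvPolynomial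
open Groth.Agent.Lib.ProjMor.Sec Groth.Agent.Lib.TensorMod.Gen Groth.Agent.Lib.Ample.GenLocus Groth.Agent.Lib.TensorMod.Dual
open Groth.Agent.Lib.LefPen45.Chart (dehomJ Coord coords cst coords_dehomJ coords_surjective)

namespace Groth.Agent.Lib.PlaneCurve

attribute [local instance] Curv2.stalkAlgebra

theorem exists_section {X : Scheme.{u}} [IsIntegral X] {U : X.Opens} (hU : genericPoint X ∈ U)
    (y : X.functionField)
    (h : ∀ x ∈ U, y ∈ (algebraMap (X.presheaf.stalk x) X.functionField).range) :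
    ∃ s : Γ(X, U), X.presheaf.germ U (genericPoint X) hU s = y := by
  have hloc : ∀ x : U, ∃ (V : X.Opens) (i : V ⟶ U) (s : Γ(X, V)), x.1 ∈ V ∧
      ∀ hV : genericPoint X ∈ V, X.presheaf.germ V (genericPoint X) hV s = y := fun x => by
    obtain ⟨a, ha⟩ := h x.1 x.2
    obtain ⟨W, hxW, t, rfl⟩ := X.presheaf.exists_germ_eq a
    refine ⟨W ⊓ U, homOfLE inf_le_right, X.presheaf.map (homOfLE inf_le_left).op t, ⟨hxW, x.2⟩,
      fun hV => ?_⟩
    rw [TopCat.Presheaf.germ_res_apply]
    exact (RefHull.Generic.algebraMap_germ hxW t).symm.trans ha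
  choose V i s hxV hs using hloc
  have hη : ∀ x, genericPoint X ∈ V x := fun x =>
    (genericPoint_specializes x.1).mem_open (V x).2 (hxV x)
  obtain ⟨t, ht, -⟩ := TopCat.Sheaf.existsUnique_gluing' X.sheaf V U i
    (fun x hx => Opens.mem_iSup.2 ⟨⟨x, hx⟩, hxV ⟨x, hx⟩⟩) s (fun a b => by
      apply germ_injective_of_isIntegral X (genericPoint X) (U := V a ⊓ V b) ⟨hη a, hη b⟩
      exact ((TopCat.Presheaf.germ_res_apply X.presheaf _ _ _ (s a)).trans (hs a (hη a))).trans
        ((TopCat.Presheaf.germ_res_apply X.presheaf _ _ _ (s b)).trans (hs b (hη b))).symm)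
  refine ⟨t, ?_⟩
  let x₀ : U := ⟨genericPoint X, hU⟩
  rw [← TopCat.Presheaf.germ_res_apply X.presheaf (i x₀) (genericPoint X) (hη x₀) t]
  exact (congrArg _ (ht x₀)).trans (hs x₀ (hη x₀))

variable {k : Type u} [Field k] {d : ℕ} (F : LefPen.Form 2 k d)
  [(crv F).Over (Spec (CommRingCat.of k))] [IsIntegral (crv F)]
  [Smooth (emb F ≫ CohB1.ProjSpace.toSpec 2 k)]
  (hov : crv F ↘ Spec (CommRingCat.of k) = emb F ≫ CohB1.ProjSpace.toSpec 2 k)
  (hd : 2 ≤ d) (hF : F ≠ 0)

local notation "S" => MvPolynomial (Fin 3) k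
local notation "hom" => homogeneousSubmodule (Fin 3) k

include hd hF in
theorem generic_mem (j : Fin 3) : genericPoint (crv F) ∈ Uc F j := by
  rcases (Uc F j : Set (crv F)).eq_empty_or_nonempty with he | ⟨x, hx⟩
  · exfalso
    refine Graded.not_isUnit_dehom (isHomogeneous_form F) hd (prime_form F (by omega) hF) j
      (isUnit_iff_dvd_one.2 ((coords_eq_zero_iff F j 1).1 ?_))
    apply TopCat.Presheaf.section_ext (crv F).sheaf (Uc F j)
    intro x hx
    exact absurd (show x ∈ (Uc F j : Set (crv F)) from hx) (by rw [he]; exact Set.notMem_empty x)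
  · exact (genericPoint_specializes x).mem_open (Uc F j).2 hx

/-- The coordinates on a chart as functions. -/
def chartFun (j : Fin 3) (hj : genericPoint (crv F) ∈ Uc F j) :
    MvPolynomial (Fin 2) k →+* (crv F).functionField :=
  ((crv F).presheaf.germ (Uc F j) (genericPoint (crv F)) hj).hom.comp (coords k (emb F) j).toRingHom

include hov in
omit [Smooth (emb F ≫ CohB1.ProjSpace.toSpec 2 k)] in
theorem chartFun_C (j : Fin 3) (hj : genericPoint (crv F) ∈ Uc F j) (c : k) :
    chartFun F j hj (C c) = algebraMap k (crv F).functionField c := by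
  have h1 : coords k (emb F) j (C c) = cst k (emb F) j c := (coords k (emb F) j).commutes c
  show (crv F).presheaf.germ (Uc F j) (genericPoint (crv F)) hj (coords k (emb F) j (C c)) = _
  rw [h1]
  have h2 : cst k (emb F) j c = (crv F).presheaf.map (homOfLE (le_top : Uc F j ≤ ⊤)).op
      (Coh.toGlobal (crv F ↘ Spec (CommRingCat.of k)) c) := by
    have key : ∀ (p : crv F ⟶ Spec (CommRingCat.of k)), emb F ≫ CohB1.ProjSpace.toSpec 2 k = p →
        (emb F ≫ CohB1.ProjSpace.toSpec 2 k).appLE ⊤ (Uc F j) le_top = p.appLE ⊤ (Uc F j) le_top := by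
      rintro p rfl; rfl
    exact congrArg (fun φ => φ.hom ((Scheme.ΓSpecIso (CommRingCat.of k)).inv c)) (key _ hov.symm)
  exact (congrArg _ h2).trans (TopCat.Presheaf.germ_res_apply (crv F).presheaf _ _ hj _)

/-- The pullback of `O(1)`. -/
abbrev O1 : (crv F).Modules := (Scheme.Modules.pullback (emb F)).obj (Twist.twistProjSpace 2 k 1)

/-- The coordinate sections. -/
def coordSec (i : Fin 3) : Γ((O1 F), ⊤) :=
  ProjUP.pullSec (emb F) (Twist.twistProjSpace 2 k 1) (ProjUP.coord 2 k i)

/-- The coordinate sections as functions. -/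
def gen (R : CurveFF.LineDiv.Rep (O1 F)) (i : Fin 3) : (crv F).functionField :=
  R.coord ((Scheme.Modules.presheaf (O1 F)).germ ⊤ (genericPoint (crv F)) trivial (coordSec F i))

variable (R : CurveFF.LineDiv.Rep (O1 F))

omit [Smooth (emb F ≫ CohB1.ProjSpace.toSpec 2 k)] in
theorem isGen_coordSec (j : Fin 3) :
    IsGen (O1 F) (Uc F j) (rs (O1 F) (le_top : Uc F j ≤ ⊤) (coordSec F j)) := by
  let el : Fin 3 → CohB1.polyGrading 2 k 1 := fun i => ⟨MvPolynomial.X i, MvPolynomial.isHomogeneous_X k i⟩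
  have hinv : PicF.IsInvertible (Twist.twist (CohB1.polyGrading 2 k) 1) :=
    ProjTilde.Invertible.twist_isInvertible_of_cover (fun y => by
      obtain ⟨c, hc⟩ := ProjMor.Main.cover (ProjMor.Poly.lin_mem 2 k) (ProjMor.Poly.adjoin_lin 2 k) y
      exact ⟨c, c.2, hc⟩) 1
  have hle : Uc F j ≤ locus (coordSec F j) := by
    rw [show Uc F j = emb F ⁻¹ᵁ Proj.basicOpen (CohB1.polyGrading 2 k) (el j : MvPolynomial (Fin 3) k) from rfl,
      ← ProjMor.Frame.locus_g (ProjMor.Main.cover (ProjMor.Poly.lin_mem 2 k) (ProjMor.Poly.adjoin_lin 2 k)) (el j)]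
    exact (locus_pullback hinv (emb F) _).ge
  have h' := (isGen_locus (coordSec F j)).res hle
  rwa [rs_rs] at h'

omit [Smooth (emb F ≫ CohB1.ProjSpace.toSpec 2 k)] in
theorem gen_ne (j : Fin 3) (hj : genericPoint (crv F) ∈ Uc F j) : gen F R j ≠ 0 := by
  intro h0
  have hg := isGen_coordSec F j
  have hg0 : (Scheme.Modules.presheaf (O1 F)).germ (Uc F j) (genericPoint (crv F)) hj
      (rs (O1 F) (le_top : Uc F j ≤ ⊤) (coordSec F j)) =
      (Scheme.Modules.presheaf (O1 F)).germ (Uc F j) (genericPoint (crv F)) hj 0 := by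
    rw [map_zero]
    exact R.coord.injective (((congrArg R.coord (TopCat.Presheaf.germ_res_apply (Scheme.Modules.presheaf (O1 F))
      _ _ hj (coordSec F j))).trans h0).trans (map_zero R.coord).symm)
  obtain ⟨W, hW, i₁, i₂, hW0⟩ := TopCat.Presheaf.germ_eq (Scheme.Modules.presheaf (O1 F)) _ hj hj _ _ hg0
  rw [map_zero] at hW0
  haveI : Nonempty W := ⟨⟨_, hW⟩⟩
  refine one_ne_zero (α := Γ(crv F, W)) ((hg W i₁.le).1 ?_)
  simp only [one_smul, zero_smul]
  exact hW0

omit [Smooth (emb F ≫ CohB1.ProjSpace.toSpec 2 k)] in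
theorem gen_rel (j i : Fin 3) (hj : genericPoint (crv F) ∈ Uc F j) :
    gen F R i = chartFun F j hj (dehomJ k j (X i)) * gen F R j := by
  let el : Fin 3 → CohB1.polyGrading 2 k 1 := fun i => ⟨MvPolynomial.X i, MvPolynomial.isHomogeneous_X k i⟩
  have h1 := ProjMor.Embed.ratio_of_iso (a := el j) (b := el i) (va := coordSec F j) (vb := coordSec F i)
    (Iso.refl (O1 F)) rfl rfl (U := Uc F j) le_rfl
  have h2 := congrArg (fun v => R.coord ((Scheme.Modules.presheaf (O1 F)).germ (Uc F j) (genericPoint (crv F)) hj v)) h1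
  refine Eq.trans ?_ (h2.trans ?_)
  · exact congrArg R.coord (TopCat.Presheaf.germ_res_apply (Scheme.Modules.presheaf (O1 F)) _ _ hj (coordSec F i)).symm
  · rw [Modules.StalkModule.germ_smul, map_smul, smul_eq_mul]
    refine congrArg₂ (fun a b : (crv F).functionField => a * b) ?_
      (congrArg R.coord (TopCat.Presheaf.germ_res_apply (Scheme.Modules.presheaf (O1 F)) _ _ hj (coordSec F j)))
    let Xi : LefPen.Form 2 k 1 := ⟨X i, LefPen.X_mem 2 k i⟩
    have h3 : coords k (emb F) j (dehomJ k j (X i)) = (emb F).app (LefPen.chart 2 k j) (LefPen.dehom Xi j) :=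
      coords_dehomJ k (emb F) j Xi
    show _ = (crv F).presheaf.germ (Uc F j) (genericPoint (crv F)) hj (coords k (emb F) j (dehomJ k j (X i)))
    rw [h3]
    exact congrArg (fun φ => (crv F).presheaf.germ (Uc F j) (genericPoint (crv F)) hj
      (φ (ProjMor.Frame.fr (CohB1.polyGrading 2 k) (el j) (el i)))) (Scheme.Hom.appLE_eq_app (emb F))

/-- The forms as functions. -/
def evalGen : S →ₐ[k] (crv F).functionField := aeval (gen F R)

include hov in
omit [Smooth (emb F ≫ CohB1.ProjSpace.toSpec 2 k)] in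
theorem evalGen_eq (j : Fin 3) (hj : genericPoint (crv F) ∈ Uc F j) {n : ℕ} {P : S}
    (hP : P.IsHomogeneous n) :
    evalGen F R P = gen F R j ^ n * chartFun F j hj (dehomJ k j P) := by
  have h1 : (chartFun F j hj).comp (dehomJ k j).toRingHom =
      eval₂Hom (algebraMap k (crv F).functionField) (fun i => chartFun F j hj (dehomJ k j (X i))) := by
    refine MvPolynomial.ringHom_ext (fun c => ?_) (fun i => by simp)
    simp only [RingHom.comp_apply, AlgHom.toRingHom_eq_coe, RingHom.coe_coe, eval₂Hom_C]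
    rw [show dehomJ k j (C c) = C c from (dehomJ k j).commutes c, chartFun_C F hov j hj]
  rw [show chartFun F j hj (dehomJ k j P) = _ from RingHom.congr_fun h1 P,
    ← Lib.ProjSpace.Charts.eval₂Hom_mul_of_isHomogeneous _ _ _ hP]
  show aeval (gen F R) P = _
  have : gen F R = fun i => gen F R j * chartFun F j hj (dehomJ k j (X i)) :=
    funext fun i => (gen_rel F R j i hj).trans (mul_comm _ _)
  conv_lhs => rw [this]
  rfl

include hov hd hF in
theorem evalGen_eq_zero_iff {n : ℕ} {P : S} (hP : P.IsHomogeneous n) :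
    evalGen F R P = 0 ↔ F.1 ∣ P := by
  have hj := generic_mem F hd hF 0
  rw [evalGen_eq F hov R 0 hj hP, mul_eq_zero, or_iff_right (pow_ne_zero _ (gen_ne F R 0 hj)),
    ← Graded.dvd_iff_dehom (isHomogeneous_form F) hd (prime_form F (by omega) hF) hP 0,
    ← coords_eq_zero_iff]
  exact map_eq_zero_iff _ (germ_injective_of_isIntegral _ _ hj)

include hov in
omit [Smooth (emb F ≫ CohB1.ProjSpace.toSpec 2 k)] in
theorem evalGen_regular (j : Fin 3) (hj : genericPoint (crv F) ∈ Uc F j) {n : ℕ} {P : S}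
    (hP : P.IsHomogeneous n) (x : crv F) (hx : x ∈ Uc F j) :
    evalGen F R P / gen F R j ^ n ∈
      (algebraMap ((crv F).presheaf.stalk x) (crv F).functionField).range := by
  refine ⟨(crv F).presheaf.germ (Uc F j) x hx (coords k (emb F) j (dehomJ k j P)), ?_⟩
  rw [evalGen_eq F hov R j hj hP, mul_div_cancel_left₀ _ (pow_ne_zero _ (gen_ne F R j hj))]
  exact RefHull.Generic.algebraMap_germ hx _

include hov hd hF in
/-- A function regular on all charts after scaling comes from a form. -/
theorem exists_form (n : ℕ) (y : (crv F).functionField)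
    (hy : ∀ j, ∀ x ∈ Uc F j, y / gen F R j ^ n ∈
      (algebraMap ((crv F).presheaf.stalk x) (crv F).functionField).range) :
    ∃ P : S, P.IsHomogeneous n ∧ evalGen F R P = y := by
  have hp := prime_form F (by omega) hF
  have hFh := isHomogeneous_form F
  have hq : ∀ j, ∃ (N : ℕ) (P : S), P.IsHomogeneous N ∧
      chartFun F j (generic_mem F hd hF j) (dehomJ k j P) = y / gen F R j ^ n := fun j => by
    obtain ⟨s, hs⟩ := exists_section (generic_mem F hd hF j) _ (hy j)
    obtain ⟨q, rfl⟩ := coords_surjective k (emb F) j s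
    obtain ⟨N, P, hP, rfl⟩ := Graded.exists_homog j q
    exact ⟨N, P, hP, hs⟩
  choose N P hP hPy using hq
  let M := N 0 + N 1 + N 2
  have hM : ∀ j, N j ≤ n + M := fun j => by fin_cases j <;> simp [M] <;> omega
  let Q : Fin 3 → S := fun j => P j * X j ^ (n + M - N j)
  have hQh : ∀ j, (Q j).IsHomogeneous (n + M) := fun j => by
    have := (hP j).mul ((isHomogeneous_X k j).pow (n + M - N j))
    rwa [one_mul, Nat.add_sub_cancel' (hM j)] at this
  have hQy : ∀ j, evalGen F R (Q j) = gen F R j ^ M * y := fun j => by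
    rw [evalGen_eq F hov R j (generic_mem F hd hF j) (hQh j), map_mul, map_pow,
      Graded.dehomJ_X_self, one_pow, mul_one, hPy, pow_add]
    field_simp [gen_ne F R j (generic_mem F hd hF j)]
  have hrel : ∀ j, ∃ u v, X j ^ M * Q 0 = X 0 ^ M * u + F.1 * v := fun j => by
    have h : evalGen F R (X j ^ M * Q 0 - X 0 ^ M * Q j) = 0 := by
      simp only [map_sub, map_mul, map_pow, hQy]
      simp only [show ∀ i, evalGen F R (X i) = gen F R i from fun i => aeval_X _ i]
      ring
    obtain ⟨v, hv⟩ := (evalGen_eq_zero_iff F hov hd hF R (n := M + (n + M))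
      (IsHomogeneous.sub (by simpa using ((isHomogeneous_X k j).pow M).mul (hQh 0))
        (by simpa using ((isHomogeneous_X k 0).pow M).mul (hQh j)))).1 h
    exact ⟨Q j, v, by linear_combination hv⟩
  obtain ⟨u, v, huv⟩ := Graded.mem_of_pow_mul (a := 0) (b := 1) (c := 2) (by decide) (by decide)
    (by decide) (Graded.not_X_dvd hFh hd hp 0) M M (Q 0) (hrel 1) (hrel 2)
  refine ⟨homogeneousComponent n u, homogeneousComponent_isHomogeneous _ _, ?_⟩
  have hcomp : Q 0 = X 0 ^ M * homogeneousComponent n u + homogeneousComponent (n + M) (F.1 * v) := by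
    have e := congrArg (homogeneousComponent (n + M)) huv
    rw [homogeneousComponent_of_mem ((mem_homogeneousSubmodule _ _).2 (hQh 0)), if_pos rfl, map_add] at e
    have h2 := DirectSum.coe_decompose_mul_of_left_mem_of_le (CohB1.polyGrading 2 k) (n := n + M) (b := u)
      ((mem_homogeneousSubmodule M _).2 (by simpa using (isHomogeneous_X k (0 : Fin 3)).pow M)) (by omega)
    rw [ProjDim.Graded.decompose_apply, ProjDim.Graded.decompose_apply, Nat.add_sub_cancel] at h2
    rwa [h2] at e
  have hzero : evalGen F R (homogeneousComponent (n + M) (F.1 * v)) = 0 := by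
    refine (evalGen_eq_zero_iff F hov hd hF R (homogeneousComponent_isHomogeneous _ _)).2 ?_
    rcases le_or_gt d (n + M) with hle | hgt
    · have h2 := DirectSum.coe_decompose_mul_of_left_mem_of_le (CohB1.polyGrading 2 k) (n := n + M) (b := v)
        ((mem_homogeneousSubmodule d F.1).2 hFh) hle
      rw [ProjDim.Graded.decompose_apply, ProjDim.Graded.decompose_apply] at h2
      exact ⟨_, h2⟩
    · have h2 := DirectSum.coe_decompose_mul_of_left_mem_of_not_le (CohB1.polyGrading 2 k) (n := n + M) (b := v)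
        ((mem_homogeneousSubmodule d F.1).2 hFh) (by omega)
      rw [ProjDim.Graded.decompose_apply] at h2
      exact h2 ▸ dvd_zero _
  have h3 := hQy 0
  rw [hcomp, map_add, hzero, add_zero, map_mul, map_pow,
    show evalGen F R (X 0) = gen F R 0 from aeval_X _ 0] at h3
  exact mul_left_cancel₀ (pow_ne_zero _ (gen_ne F R 0 (generic_mem F hd hF 0))) h3

include hov hd hF in
/-- The global functions are the constants. -/
theorem finrank_h0 : Module.finrank k (Coh.HH (crv F) (Coh.structureModule (crv F)) 0) = 1 := by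
  have hinv : PicF.IsInvertible (Twist.twistProjSpace 2 k 1) :=
    ProjTilde.Invertible.twist_isInvertible_of_cover (fun y => by
      obtain ⟨c, hc⟩ := ProjMor.Main.cover (ProjMor.Poly.lin_mem 2 k) (ProjMor.Poly.adjoin_lin 2 k) y
      exact ⟨c, c.2, hc⟩) 1
  obtain ⟨R⟩ := CurveFF.LineDiv.nonempty_rep (PicLoc.isInvertible_pullback (emb F) hinv)
  letI := Curves.GlobalSections.secModule k (Coh.structureModule (crv F))
  rw [(Curves.GlobalSections.h0Linear k (Coh.structureModule (crv F))).finrank_eq]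
  refine finrank_eq_one_iff'.2 ⟨(show Γ(crv F, ⊤) from 1), fun h => ?_, fun a => ?_⟩
  · exact one_ne_zero (α := Γ(crv F, ⊤)) h
  · obtain ⟨P, hP, hPy⟩ := exists_form F hov hd hF R 0
      ((crv F).presheaf.germ ⊤ (genericPoint (crv F)) trivial (show Γ(crv F, ⊤) from a)) (fun j x hx => by
        rw [pow_zero, div_one]
        exact ⟨_, RefHull.Generic.algebraMap_germ (U := ⊤) (x := x) trivial (show Γ(crv F, ⊤) from a)⟩)
    obtain ⟨c, rfl⟩ : ∃ c, P = C c :=
      ⟨_, totalDegree_eq_zero_iff_eq_C.1 (Nat.le_zero.1 hP.totalDegree_le)⟩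
    refine ⟨c, ?_⟩
    apply germ_injective_of_isIntegral (crv F) (genericPoint (crv F)) (U := ⊤) trivial
    refine Eq.trans ?_ hPy
    rw [show evalGen F R (C c) = algebraMap k (crv F).functionField c from aeval_C _ c]
    exact (map_mul _ _ _).trans ((congrArg ((crv F).presheaf.germ ⊤ (genericPoint (crv F)) trivial
      (Coh.toGlobal (crv F ↘ Spec (CommRingCat.of k)) c) * ·) (map_one _)).trans (mul_one _))

variable [IsProper (crv F ↘ Spec (CommRingCat.of k))] (h : CurveFF.CurveHyp (crv F))
  (hK : _root_.FunFld.IsFunctionField k (crv F).functionField)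

include hov hd hF in
theorem L_smul_eq (n : ℕ) :
    _root_.FunFld.L ((n : ℤ) • R.div h hK) = (hom n).map (evalGen F R).toLinearMap := by
  have hord : ∀ (j : Fin 3) (x : CurveFF.CPt (crv F)), x.1 ∈ Uc F j →
      R.div h hK (CurveFF.placeOf k h x) = -(CurveFF.placeOf k h x).ord (gen F R j) := by
    intro j x hx
    rw [R.div_placeOf, (CurveFF.TwistDiv.e_eq_of_isGen h R (isGen_coordSec F j) x hx).2]
    exact congrArg (fun z => -(CurveFF.placeOf k h x).ord (R.coord z))
      (TopCat.Presheaf.germ_res_apply (Scheme.Modules.presheaf (O1 F)) _ _ _ (coordSec F j))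
  apply le_antisymm
  · intro y hy
    obtain ⟨P, hP, rfl⟩ := exists_form F hov hd hF R n y (fun j x hx => by
      rcases SmoothCurve.Curve.eq_genericPoint_or_isClosed h.dim x with rfl | hc
      · exact ⟨y / gen F R j ^ n, by simp [RingHom.algebraMap_toAlgebra]⟩
      rcases eq_or_ne y 0 with rfl | hy0
      · rw [zero_div]; exact zero_mem _
      have hgn : gen F R j ^ n ≠ 0 := pow_ne_zero _ (gen_ne F R j (generic_mem F hd hF j))
      refine (CurveFF.mem_O_placeOf (k := k) h ⟨x, hc⟩).1 ?_
      refine (FunFld.Place.val_le_one_iff (CurveFF.placeOf k h ⟨x, hc⟩)).2 ?_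
      have h1 := ((FunFld.Degree.mem_L_iff_ord.1 hy).resolve_left hy0) (CurveFF.placeOf k h ⟨x, hc⟩)
      rw [Finsupp.smul_apply, smul_eq_mul, hord j ⟨x, hc⟩ hx] at h1
      rw [div_eq_mul_inv, FunFld.Place.ord_mul _ hy0 (inv_ne_zero hgn), FunFld.Place.ord_inv,
        FunFld.Place.ord_pow]
      linarith)
    exact ⟨P, (mem_homogeneousSubmodule n P).2 hP, rfl⟩
  · rintro _ ⟨P, hP, rfl⟩
    refine FunFld.Degree.mem_L_iff_ord.2 (or_iff_not_imp_left.2 fun hy0 Q => ?_)
    obtain ⟨x, rfl⟩ := CurveFF.placeOf_surjective (k := k) h Q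
    obtain ⟨j, hj⟩ := Opens.mem_iSup.1
      ((Lib.LefPen45.Chart.iSup_chartX k (emb F)).ge (trivial : x.1 ∈ (⊤ : (crv F).Opens)))
    have hg := gen_ne F R j (generic_mem F hd hF j)
    have h1 := (FunFld.Place.val_le_one_iff _).1 ((CurveFF.mem_O_placeOf (k := k) h x).2
      (evalGen_regular F hov R j (generic_mem F hd hF j) ((mem_homogeneousSubmodule n P).1 hP) x.1 hj))
    rw [div_eq_mul_inv, FunFld.Place.ord_mul _ (show evalGen F R P ≠ 0 from hy0) (inv_ne_zero (pow_ne_zero _ hg)),
      FunFld.Place.ord_inv, FunFld.Place.ord_pow] at h1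
    rw [Finsupp.smul_apply, smul_eq_mul, hord j x hj]
    change -_ ≤ (CurveFF.placeOf k h x).ord (evalGen F R P)
    linarith

include hov hd hF in
theorem ell_smul_add (n : ℕ) :
    _root_.FunFld.ell ((n : ℤ) • R.div h hK) + (if d ≤ n then Nat.choose (n - d + 2) 2 else 0) =
      Nat.choose (n + 2) 2 := by
  let Φ : hom n →ₗ[k] (crv F).functionField := (evalGen F R).toLinearMap ∘ₗ (hom n).subtype
  haveI : Module.Finite k (hom n) := Module.finite_of_finrank_pos (by
    rw [H83.PlanePoints.finrank_homogeneous]; exact Nat.choose_pos (by omega))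
  have h1 := LinearMap.finrank_range_add_finrank_ker Φ
  rw [H83.PlanePoints.finrank_homogeneous, LinearMap.range_comp, Submodule.range_subtype,
    ← L_smul_eq F hov hd hF R h hK n] at h1
  rw [← h1]
  congr 1
  have hF0 : (F.1 : S) ≠ 0 := fun e => hF (Subtype.ext e)
  split_ifs with hle
  · let μ : hom (n - d) →ₗ[k] hom n :=
      LinearMap.codRestrict (hom n) ((LinearMap.mulLeft k (F.1 : S)).comp (hom (n - d)).subtype) fun Q => by
        refine (mem_homogeneousSubmodule n _).2 ?_
        have := (isHomogeneous_form F).mul ((mem_homogeneousSubmodule _ _).1 Q.2)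
        rwa [Nat.add_sub_cancel' hle] at this
    have hμ : Function.Injective μ := fun a b e =>
      Subtype.ext (mul_left_cancel₀ hF0 (congrArg Subtype.val e))
    have hrange : LinearMap.range μ = LinearMap.ker Φ := by
      ext ⟨P, hP⟩
      constructor
      · rintro ⟨Q, hQ⟩
        refine (evalGen_eq_zero_iff F hov hd hF R ((mem_homogeneousSubmodule n _).1 hP)).2 ?_
        exact ⟨Q.1, (congrArg Subtype.val hQ).symm⟩
      · intro hker
        have hdvd := (evalGen_eq_zero_iff F hov hd hF R ((mem_homogeneousSubmodule n _).1 hP)).1 hker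
        rcases Graded.exists_quot (isHomogeneous_form F) hF0 ((mem_homogeneousSubmodule n _).1 hP) hdvd with
          h0 | ⟨-, Q, hQ, hPQ⟩
        · exact ⟨0, (map_zero μ).trans (Subtype.ext h0.symm)⟩
        · exact ⟨⟨Q, (mem_homogeneousSubmodule _ _).2 hQ⟩, Subtype.ext hPQ.symm⟩
    rw [← hrange, LinearMap.finrank_range_of_inj hμ, H83.PlanePoints.finrank_homogeneous]
  · have hbot : LinearMap.ker Φ = ⊥ := (Submodule.eq_bot_iff _).2 fun P hP => by
      have hdvd := (evalGen_eq_zero_iff F hov hd hF R ((mem_homogeneousSubmodule n _).1 P.2)).1 hP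
      rcases Graded.exists_quot (isHomogeneous_form F) hF0 ((mem_homogeneousSubmodule n _).1 P.2) hdvd with
        h0 | ⟨hle', -⟩
      · exact Subtype.ext h0
      · exact absurd hle' hle
    rw [hbot, finrank_bot]

theorem two_mul_choose (m : ℕ) : 2 * Nat.choose (m + 2) 2 = (m + 2) * (m + 1) := by
  induction m with
  | zero => rfl
  | succ m ih =>
    have h : Nat.choose (m + 2 + 1) 2 = Nat.choose (m + 2) 1 + Nat.choose (m + 2) 2 :=
      Nat.choose_succ_succ (m + 2) 1
    rw [show m + 1 + 2 = m + 2 + 1 by ring, h, Nat.choose_one_right]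
    linarith

include hov hd hF in
/-- The degree of the line series and the genus of a smooth plane curve. -/
theorem numerics :
    _root_.FunFld.ell (R.div h hK) = 3 ∧ (R.div h hK).deg = d ∧
      2 * (_root_.FunFld.genus k (crv F).functionField : ℤ) = ((d : ℤ) - 1) * ((d : ℤ) - 2) := by
  have h3 : _root_.FunFld.ell (R.div h hK) = 3 := by
    have e := ell_smul_add F hov hd hF R h hK 1
    rw [if_neg (by omega), Nat.cast_one, one_smul] at e
    simpa using e
  have hpos : 1 ≤ (R.div h hK).deg := by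
    obtain ⟨E, a, hE, ha, hDE, hEd⟩ := FunFld.SmallGenus.exists_nonneg hK (E := R.div h hK) (by omega)
    by_contra hlt
    have h0 : E.deg = 0 := le_antisymm (by omega) (by
      have := FunFld.Degree.deg_mono hE
      rwa [FunFld.Degree.deg_zero] at this)
    have : E = 0 := FunFld.SmallGenus.eq_zero_of_nonneg hK hE h0
    rw [hDE, this, FunFld.Riemann.ell_add_div hK 0 ha, FunFld.Degree.ell_zero hK] at h3
    omega
  set G := _root_.FunFld.genus k (crv F).functionField with hG
  have key : ∀ n : ℕ, d + 2 * G ≤ n → 2 * ((n : ℤ) * (R.div h hK).deg + 1 - G) =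
      ((n : ℤ) + 2) * ((n : ℤ) + 1) - ((n : ℤ) - d + 2) * ((n : ℤ) - d + 1) := by
    intro n hn
    have e := ell_smul_add F hov hd hF R h hK n
    rw [if_pos (by omega)] at e
    have hdeg : ((n : ℤ) • R.div h hK).deg = n * (R.div h hK).deg := FunFld.Degree.deg_smul _ _
    have hn' : (d : ℤ) + 2 * G ≤ n := by exact_mod_cast hn
    have h2 := FunFld.Weil.ell_eq_of_deg_ge hK (D := (n : ℤ) • R.div h hK) (by rw [hdeg, ← hG]; nlinarith)
    rw [hdeg, ← hG] at h2
    have c1 : (2 * Nat.choose (n + 2) 2 : ℤ) = ((n : ℤ) + 2) * ((n : ℤ) + 1) := by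
      exact_mod_cast two_mul_choose n
    have c2 : (2 * Nat.choose (n - d + 2) 2 : ℤ) = ((n : ℤ) - d + 2) * ((n : ℤ) - d + 1) := by
      rw [← Nat.cast_sub (show d ≤ n by omega)]
      exact_mod_cast two_mul_choose (n - d)
    have e' : (_root_.FunFld.ell ((n : ℤ) • R.div h hK) : ℤ) + (Nat.choose (n - d + 2) 2 : ℤ) =
        (Nat.choose (n + 2) 2 : ℤ) := by exact_mod_cast e
    linear_combination 2 * e' + c1 - c2 - 2 * h2
  have k1 := key (d + 2 * G) le_rfl
  have k2 := key (d + 2 * G + 1) (Nat.le_succ _)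
  push_cast at k1 k2
  have hdeg : (R.div h hK).deg = d := by linarith
  refine ⟨h3, hdeg, ?_⟩
  rw [hdeg] at k1
  linarith

end Groth.Agent.Lib.PlaneCurve
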