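import Groth.Agent.Lib.PlaneCurve.Graded
import Groth.Agent.Lib.Cyc.SmoothReg
import Groth.Agent.Lib.Regular.Quotient
import Groth.Agent.Lib.ProjTilde.QCoh
import Mathlib.AlgebraicGeometry.IdealSheaf.Subscheme

/-!
A smooth plane curve is integral and its equation is prime.
-/

noncomputable section
set_option autoImplicit false
set_option backward.isDefEq.respectTransparency.types false
set_option linter.style.haveILetI false
universe u

open CategoryTheory CategoryTheory.Limits AlgebraicGeometry TopologicalSpace Opposite MvPolynomial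
open Groth.Agent.Lib.LefPen45.Chart (dehomJ Coord coords coords_dehomJ coords_surjective)

namespace Groth.Agent.Lib.PlaneCurve

variable {k : Type u} [Field k] {d : ℕ} (F : LefPen.Form 2 k d)

/-- The plane curve. -/
abbrev crv : Scheme.{u} := (LefPen.hypIdeal F).subscheme

/-- Its embedding. -/
abbrev emb : crv F ⟶ CohB1.ProjSpace 2 k := (LefPen.hypIdeal F).subschemeι

/-- The charts. -/
abbrev Uc (j : Fin 3) : (crv F).Opens := emb F ⁻¹ᵁ LefPen.chart 2 k j

theorem isAffineOpen_Uc (j : Fin 3) : IsAffineOpen (Uc F j) :=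
  (Lib.LefPen45.Chart.chartX k (emb F) j).2

theorem isHomogeneous_form : (F.1 : MvPolynomial (Fin 3) k).IsHomogeneous d :=
  (mem_homogeneousSubmodule d F.1).1 F.2

theorem coords_eq_zero_iff (j : Fin 3) (a : MvPolynomial (Fin 2) k) :
    coords k (emb F) j a = 0 ↔ dehomJ k j F.1 ∣ a := by
  have hker : RingHom.ker ((emb F).app (LefPen.chart 2 k j)).hom =
      Ideal.span {LefPen.dehom F j} := by
    rw [← LefPen45.HypSheaf.hypIdeal_chart F j]
    exact (LefPen.hypIdeal F).ker_subschemeι_app (LefPen45.HypSheaf.chartAff k j)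
  let e : MvPolynomial (Fin 2) k →+* Γ(CohB1.ProjSpace 2 k, LefPen.chart 2 k j) :=
    (Proj.awayToSection (CohB1.polyGrading 2 k) (MvPolynomial.X j)).hom.comp
      (Lib.ProjSpace.Charts.chartEquiv k j).toRingHom
  have he : Function.Bijective e := by
    have : IsIso (Proj.awayToSection (CohB1.polyGrading 2 k) (MvPolynomial.X j)) :=
      (Proj.basicOpenIsoAway (CohB1.polyGrading 2 k) _ (Lib.ProjSpace.Charts.X_mem_one j) one_pos).isIso_hom
    exact (ConcreteCategory.bijective_of_isIso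
      (Proj.awayToSection (CohB1.polyGrading 2 k) (MvPolynomial.X j))).comp
      (Lib.ProjSpace.Charts.chartEquiv k j).bijective
  have hd : e (dehomJ k j F.1) = LefPen.dehom F j := by
    change (Proj.awayToSection (CohB1.polyGrading 2 k) (MvPolynomial.X j)).hom
      (Lib.ProjSpace.Charts.chartEquiv k j (dehomJ k j F.1)) = _
    rw [Lib.LefPen45.Chart.chartEquiv_dehomJ_eq_mk k j (e := d) (by simpa using F.2)]
    rfl
  change ((emb F).app (LefPen.chart 2 k j)).hom (e a) = 0 ↔ _
  rw [← RingHom.mem_ker, hker, Ideal.mem_span_singleton]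
  constructor
  · rintro ⟨c, hc⟩
    obtain ⟨c', rfl⟩ := he.2 c
    rw [← hd, ← map_mul] at hc
    exact ⟨c', he.1 hc⟩
  · rintro ⟨c, rfl⟩
    exact ⟨e c, by rw [map_mul, hd]⟩

variable [Smooth (emb F ≫ CohB1.ProjSpace.toSpec 2 k)]

theorem isDomain_stalk (x : crv F) : IsDomain ((crv F).presheaf.stalk x) :=
  have := Cyc.SmoothReg.isRegularLocalRing_stalk (emb F ≫ CohB1.ProjSpace.toSpec 2 k) x
  Regular.Quotient.isDomain _

theorem prime_form (hd : 1 ≤ d) (hF : F ≠ 0) : Prime (F.1 : MvPolynomial (Fin 3) k) := by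
  have hFh := isHomogeneous_form F
  have hF0 : (F.1 : MvPolynomial (Fin 3) k) ≠ 0 := fun h => hF (Subtype.ext h)
  have hu : ¬ IsUnit (F.1 : MvPolynomial (Fin 3) k) := fun h => by
    obtain ⟨r, -, hr⟩ := isUnit_iff_eq_C_of_isReduced.1 h
    have h1 := hFh.totalDegree hF0
    rw [hr, totalDegree_C] at h1
    omega
  obtain ⟨g, hg, hgF⟩ := WfDvdMonoid.exists_irreducible_factor hu hF0
  obtain ⟨e, he⟩ := hgF
  by_cases heu : IsUnit e
  · rw [← UniqueFactorizationMonoid.irreducible_iff_prime, he]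
    obtain ⟨u, rfl⟩ := heu
    exact (irreducible_mul_units u).2 hg
  exfalso
  have he0 : e ≠ 0 := fun h => hF0 (by rw [he, h, mul_zero])
  obtain ⟨h, hh, hhe⟩ := WfDvdMonoid.exists_irreducible_factor heu he0
  have hgh := Graded.isHomogeneous_of_dvd hg hFh hF0 ⟨e, he⟩
  have hhh := Graded.isHomogeneous_of_dvd hh hFh hF0 (hhe.trans ⟨g, by rw [he, mul_comm]⟩)
  have hpos : ∀ {q : MvPolynomial (Fin 3) k}, Irreducible q → 0 < q.totalDegree := fun {q} hq => by
    by_contra h0
    obtain ⟨c, hc⟩ : ∃ c, q = C c := ⟨_, totalDegree_eq_zero_iff_eq_C.1 (by omega)⟩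
    rcases eq_or_ne c 0 with rfl | hc0
    · exact hq.ne_zero (by rw [hc, map_zero])
    · exact hq.not_isUnit (hc ▸ IsUnit.map C (isUnit_iff_ne_zero.2 hc0))
  obtain ⟨P, hP, hgP, hhP, j, hj⟩ := Graded.exists_prime_point hgh hhh (hpos hg) (hpos hh)
  -- the point
  let T := MvPolynomial (Fin 3) k ⧸ P
  let L := FractionRing T
  let π : MvPolynomial (Fin 3) k →ₐ[k] L :=
    (IsScalarTower.toAlgHom k T L).comp (Ideal.Quotient.mkₐ k P)
  have hπ : ∀ q, π q = 0 ↔ q ∈ P := fun q => by
    show algebraMap T L (Ideal.Quotient.mk P q) = 0 ↔ _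
    rw [map_eq_zero_iff _ (IsFractionRing.injective T L), Ideal.Quotient.eq_zero_iff_mem]
  have hjL : π (X j) ≠ 0 := fun h => hj ((hπ _).1 h)
  let χ : MvPolynomial (Fin 2) k →ₐ[k] L := aeval fun m => π (X (j.succAbove m)) / π (X j)
  have hχ : ∀ (n : ℕ) (Q : MvPolynomial (Fin 3) k), Q.IsHomogeneous n → π Q = π (X j) ^ n * χ (dehomJ k j Q) := by
    intro n Q hQ
    have h1 : χ.comp (dehomJ k j) = aeval fun i => π (X i) / π (X j) := MvPolynomial.algHom_ext fun i => by
      rcases Fin.eq_self_or_eq_succAbove j i with rfl | ⟨m, rfl⟩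
      · simp [Graded.dehomJ_X_self, div_self hjL]
      · simp [χ, dehomJ]
    rw [show χ (dehomJ k j Q) = aeval (fun i => π (X i) / π (X j)) Q from AlgHom.congr_fun h1 Q]
    have h2 := Lib.ProjSpace.Charts.eval₂Hom_mul_of_isHomogeneous (algebraMap k L) (π (X j))
      (fun i => π (X i) / π (X j)) hQ
    have h3 : π = aeval fun i => π (X i) := MvPolynomial.algHom_ext fun i => by simp
    conv_lhs => rw [h3]
    simp only [mul_div_cancel₀ _ hjL] at h2
    exact h2
  have hχ0 : ∀ (n : ℕ) (Q : MvPolynomial (Fin 3) k), Q.IsHomogeneous n → Q ∈ P →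
      χ (dehomJ k j Q) = 0 := fun n Q hQ hQP => by
    have := hχ n Q hQ
    rw [(hπ Q).2 hQP] at this
    exact (mul_eq_zero.1 this.symm).resolve_left (pow_ne_zero _ hjL)
  have hχg := hχ0 _ g hgh hgP
  have hχh := hχ0 _ h hhh hhP
  obtain ⟨e', he'⟩ := hhe
  -- the prime of the chart
  let q := RingHom.ker χ.toRingHom
  have hkerq : RingHom.ker (coords k (emb F) j).toRingHom ≤ q := fun a ha => by
    obtain ⟨c, rfl⟩ := (coords_eq_zero_iff F j a).1 ha
    show χ _ = 0
    rw [map_mul, he, map_mul, map_mul, hχg, zero_mul, zero_mul]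
  haveI : q.IsPrime := RingHom.ker_isPrime _
  have hprime : (q.map (coords k (emb F) j).toRingHom).IsPrime :=
    Ideal.map_isPrime_of_surjective (coords_surjective k (emb F) j) hkerq
  let q' : PrimeSpectrum Γ(crv F, Uc F j) := ⟨q.map (coords k (emb F) j).toRingHom, hprime⟩
  let U : (crv F).Opens := Uc F j
  have hU : IsAffineOpen U := isAffineOpen_Uc F j
  have hmem : hU.fromSpec q' ∈ U := by
    have h' := Set.mem_range_self (f := hU.fromSpec) q'
    rwa [hU.range_fromSpec] at h'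
  letI := TopCat.Presheaf.algebra_section_stalk (crv F).presheaf (⟨hU.fromSpec q', hmem⟩ : U)
  haveI : IsLocalization.AtPrime ((crv F).presheaf.stalk (hU.fromSpec q')) q'.asIdeal :=
    hU.isLocalization_stalk' q' hmem
  haveI := isDomain_stalk F (hU.fromSpec q')
  have hz : coords k (emb F) j (dehomJ k j g) * coords k (emb F) j (dehomJ k j e) = 0 := by
    rw [← map_mul, ← map_mul, ← he, coords_eq_zero_iff]
  have hne : ∀ (a b : MvPolynomial (Fin 3) k) (m : ℕ), a.IsHomogeneous m → a ≠ 0 → F.1 = a * b →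
      χ (dehomJ k j b) = 0 →
      algebraMap Γ(crv F, U) ((crv F).presheaf.stalk (hU.fromSpec q')) (coords k (emb F) j (dehomJ k j a)) ≠ 0 := by
    intro a b m ha ha0 hab hb0 h0
    obtain ⟨⟨s, hs⟩, hs0⟩ := (IsLocalization.map_eq_zero_iff q'.asIdeal.primeCompl _ _).1 h0
    obtain ⟨s', rfl⟩ := coords_surjective k (emb F) j s
    rw [show ((⟨coords k (emb F) j s', hs⟩ : q'.asIdeal.primeCompl) : Γ(crv F, U)) * _ =
      coords k (emb F) j (s' * dehomJ k j a) from (map_mul _ _ _).symm, coords_eq_zero_iff] at hs0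
    obtain ⟨c, hc⟩ := hs0
    refine hs (Ideal.mem_map_of_mem _ ?_)
    show χ s' = 0
    have hane : dehomJ k j a ≠ 0 := fun h' => ha0 ((Graded.dehomJ_eq_zero_iff j ha).1 h')
    have : s' = dehomJ k j b * c := mul_right_cancel₀ hane (by rw [hc, hab, map_mul]; ring)
    rw [this, map_mul, hb0, zero_mul]
  refine mul_ne_zero (hne g e _ hgh hg.ne_zero he (by rw [he', map_mul, map_mul, hχh, zero_mul]))
    ?_ (by rw [← map_mul, hz, map_zero])
  intro h0
  obtain ⟨⟨s, hs⟩, hs0⟩ := (IsLocalization.map_eq_zero_iff q'.asIdeal.primeCompl _ _).1 h0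
  obtain ⟨s', rfl⟩ := coords_surjective k (emb F) j s
  rw [show ((⟨coords k (emb F) j s', hs⟩ : q'.asIdeal.primeCompl) : Γ(crv F, U)) * _ =
    coords k (emb F) j (s' * dehomJ k j e) from (map_mul _ _ _).symm, coords_eq_zero_iff] at hs0
  obtain ⟨c, hc⟩ := hs0
  refine hs (Ideal.mem_map_of_mem _ ?_)
  show χ s' = 0
  have hene : dehomJ k j e ≠ 0 := by
    intro h'
    have hFd : dehomJ k j F.1 ≠ 0 := fun h'' => hF0 ((Graded.dehomJ_eq_zero_iff j hFh).1 h'')
    exact hFd (by rw [he, map_mul, h', mul_zero])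
  have : s' = dehomJ k j g * c := mul_right_cancel₀ hene (by rw [hc, he, map_mul]; ring)
  rw [this, map_mul, hχg, zero_mul]

theorem irreducibleSpace (hd : 2 ≤ d) (hF : F ≠ 0) : IrreducibleSpace (crv F) := by
  have hp := prime_form F (by omega) hF
  have hFh := isHomogeneous_form F
  have hdom : ∀ j, IsDomain Γ(crv F, Uc F j) := fun j => by
    haveI : Nontrivial Γ(crv F, Uc F j) := ⟨⟨0, coords k (emb F) j 1, fun h =>
      Graded.not_isUnit_dehom hFh hd hp j
        (isUnit_iff_dvd_one.2 ((coords_eq_zero_iff F j 1).1 h.symm))⟩⟩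
    haveI : NoZeroDivisors Γ(crv F, Uc F j) := ⟨fun {a b} hab => by
      obtain ⟨a, rfl⟩ := coords_surjective k (emb F) j a
      obtain ⟨b, rfl⟩ := coords_surjective k (emb F) j b
      have hab' : coords k (emb F) j (a * b) = 0 := (map_mul _ _ _).trans hab
      rw [coords_eq_zero_iff] at hab'
      exact (Graded.prime_dehom_mem hFh hd hp j hab').imp (coords_eq_zero_iff F j a).2 (coords_eq_zero_iff F j b).2⟩
    exact NoZeroDivisors.to_isDomain _
  have hirr : ∀ j, IsIrreducible (Uc F j : Set (crv F)) := fun j => by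
    haveI := hdom j
    have hU := isAffineOpen_Uc F j
    rw [← hU.range_fromSpec, ← Set.image_univ]
    haveI : IrreducibleSpace ↥(Spec Γ(crv F, Uc F j)) :=
      inferInstanceAs (IrreducibleSpace (PrimeSpectrum Γ(crv F, Uc F j)))
    exact (IrreducibleSpace.isIrreducible_univ _).image _ hU.fromSpec.continuous.continuousOn
  have hmeet : ∀ a b, ((Uc F a : Set (crv F)) ∩ Uc F b).Nonempty := by
    intro a b
    haveI := hdom a
    rcases eq_or_ne b a with rfl | hba
    · rw [Set.inter_self]; exact (hirr b).nonempty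
    let Xb : LefPen.Form 2 k 1 := ⟨X b, LefPen.X_mem 2 k b⟩
    have hne : (emb F).app (LefPen.chart 2 k a) (LefPen.dehom Xb a) ≠ 0 := by
      rw [← coords_dehomJ]
      intro h
      rw [coords_eq_zero_iff, Graded.dvd_iff_dehom hFh hd hp (isHomogeneous_X k b)] at h
      exact Graded.not_dvd_X_pow hFh hd hp b 1 (by rwa [pow_one])
    obtain ⟨x, hx⟩ : ((crv F).basicOpen ((emb F).app (LefPen.chart 2 k a) (LefPen.dehom Xb a)) : Set (crv F)).Nonempty := by
      rw [Set.nonempty_iff_ne_empty]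
      intro h
      refine hne ?_
      haveI : IsReduced (crv F) := by
        haveI : ∀ x : crv F, _root_.IsReduced ((crv F).presheaf.stalk x) := fun x =>
          haveI := isDomain_stalk F x
          inferInstance
        exact isReduced_of_isReduced_stalk _
      exact (basicOpen_eq_bot_iff _).1 (Opens.ext h)
    refine ⟨x, (crv F).basicOpen_le _ hx, ?_⟩
    rw [← Scheme.preimage_basicOpen] at hx
    have hb : (CohB1.ProjSpace 2 k).basicOpen (LefPen.dehom Xb a) ≤ LefPen.chart 2 k b := by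
      refine ((ProjTilde.QCoh.basicOpen_awayToSection (LefPen.X_mem 2 k a) 1 (X b) _).trans_le ?_)
      rw [Proj.basicOpen_mul]
      exact inf_le_right
    exact hb hx
  refine { toNonempty := (hirr 0).nonempty.to_subtype.map Subtype.val, isPreirreducible_univ := ?_ }
  intro u v hu hv hu' hv'
  obtain ⟨x, -, hxu⟩ := hu'
  obtain ⟨y, -, hyv⟩ := hv'
  obtain ⟨a, ha⟩ : ∃ a, x ∈ Uc F a := Opens.mem_iSup.1
    ((Lib.LefPen45.Chart.iSup_chartX k (emb F)).ge (trivial : x ∈ (⊤ : (crv F).Opens)))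
  obtain ⟨b, hb⟩ : ∃ b, y ∈ Uc F b := Opens.mem_iSup.1
    ((Lib.LefPen45.Chart.iSup_chartX k (emb F)).ge (trivial : y ∈ (⊤ : (crv F).Opens)))
  obtain ⟨z, hza, hzu, hzb⟩ := (hirr a).isPreirreducible u (Uc F b) hu (Uc F b).2 ⟨x, ha, hxu⟩
    (hmeet a b)
  obtain ⟨w, -, hwu, hwv⟩ := (hirr b).isPreirreducible u v hu hv ⟨z, hzb, hzu⟩ ⟨y, hb, hyv⟩
  exact ⟨w, trivial, hwu, hwv⟩

theorem isIntegral (hd : 2 ≤ d) (hF : F ≠ 0) : IsIntegral (crv F) := by
  haveI := irreducibleSpace F hd hF
  haveI : ∀ x : crv F, _root_.IsReduced ((crv F).presheaf.stalk x) := fun x =>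
    haveI := isDomain_stalk F x
    inferInstance
  haveI : IsReduced (crv F) := isReduced_of_isReduced_stalk _
  exact isIntegral_of_irreducibleSpace_of_isReduced _

end Groth.Agent.Lib.PlaneCurve
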