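import Groth.Agent.Lib.LefPen45.Chart
import Groth.Agent.Lib.ProjDim.Graded
import Groth.Agent.H83.Elem.PlanePoints
import Mathlib.RingTheory.Polynomial.UniqueFactorization

/-!
Forms in three variables modulo a prime form.
-/

noncomputable section
set_option autoImplicit false
set_option linter.style.haveILetI false
universe u

open MvPolynomial
open Groth.Agent.Lib.LefPen45.Chart (dehomJ)

namespace Groth.Agent.Lib.PlaneCurve.Graded

variable {k : Type u} [Field k]

local notation "S" => MvPolynomial (Fin 3) k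
local notation "R" => MvPolynomial (Fin 2) k

theorem mem_grading {P : S} {n : ℕ} (h : P.IsHomogeneous n) : P ∈ CohB1.polyGrading 2 k (n • 1) := by
  rw [smul_eq_mul, mul_one]
  exact (mem_homogeneousSubmodule n P).2 h

theorem dehomJ_X_self (j : Fin 3) : dehomJ k j (X j) = 1 := by
  simp [dehomJ]

theorem dehomJ_eq_zero_iff (j : Fin 3) {P : S} {n : ℕ} (h : P.IsHomogeneous n) :
    dehomJ k j P = 0 ↔ P = 0 := by
  refine ⟨fun h0 => ?_, fun h0 => by rw [h0, map_zero]⟩
  have h1 := Lib.LefPen45.Chart.chartEquiv_dehomJ_eq_mk k j (e := n) (mem_grading h)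
  rw [h0, map_zero] at h1
  have h2 := (congrArg HomogeneousLocalization.val h1).symm
  rw [HomogeneousLocalization.Away.val_mk, HomogeneousLocalization.val_zero] at h2
  by_contra hP
  rw [Localization.mk_eq_mk', IsLocalization.mk'_eq_zero_iff] at h2
  obtain ⟨⟨m, hm⟩, hm2⟩ := h2
  obtain ⟨e, rfl⟩ := hm
  exact hP ((mul_eq_zero.1 hm2).resolve_left (pow_ne_zero _ (X_ne_zero j)))

theorem exists_homog (j : Fin 3) (a : R) : ∃ (N : ℕ) (P : S), P.IsHomogeneous N ∧ dehomJ k j P = a := by
  obtain ⟨N, P, hP, he⟩ := HomogeneousLocalization.Away.mk_surjective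
    (CohB1.polyGrading 2 k) (d := 1) (isHomogeneous_X k j) (Groth.Agent.Lib.ProjSpace.Charts.chartEquiv k j a)
  have hP' : P.IsHomogeneous N := by
    have := (mem_homogeneousSubmodule (N • 1) P).1 hP
    rwa [smul_eq_mul, mul_one] at this
  exact ⟨N, P, hP', (Groth.Agent.Lib.ProjSpace.Charts.chartEquiv k j).injective
    ((Lib.LefPen45.Chart.chartEquiv_dehomJ_eq_mk k j hP).trans he)⟩

/-- An irreducible factor of a form is a form. -/
theorem isHomogeneous_of_dvd {h F : S} {d : ℕ} (hh : Irreducible h) (hF : F.IsHomogeneous d)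
    (hF0 : F ≠ 0) (hdvd : h ∣ F) : h.IsHomogeneous h.totalDegree := by
  have hI := ProjDim.Graded.span_isHomogeneous_of_dvd hh hF hF0 hdvd
  have h0 : ∀ m, m ≠ h.totalDegree → homogeneousComponent m h = 0 := by
    intro m hm
    by_contra hne
    have h1 := Ideal.mem_span_singleton.1
      (ProjDim.Graded.component_mem hI (Ideal.mem_span_singleton_self h) m)
    rcases lt_or_gt_of_ne hm with hlt | hgt
    · have h2 : h.totalDegree ≤ (homogeneousComponent m h).totalDegree := by
        obtain ⟨c, hc⟩ := h1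
        rw [hc, totalDegree_mul_of_isDomain hh.ne_zero (fun e => hne (by rw [hc, e, mul_zero]))]
        exact Nat.le_add_right _ _
      have h3 := (homogeneousComponent_isHomogeneous m h).totalDegree hne
      omega
    · exact hne (homogeneousComponent_eq_zero m h hgt)
  have hsum := sum_homogeneousComponent h
  rw [Finset.sum_eq_single h.totalDegree (fun m _ hm => h0 m hm)
    (fun hm => absurd (Finset.mem_range.2 (Nat.lt_succ_self _)) hm)] at hsum
  have hh' := homogeneousComponent_isHomogeneous h.totalDegree h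
  rwa [hsum] at hh'

/-- Two forms of positive degree vanish at a common point. -/
theorem exists_prime_point {G H : S} {a b : ℕ} (hG : G.IsHomogeneous a) (hH : H.IsHomogeneous b)
    (ha : 0 < a) (hb : 0 < b) :
    ∃ P : Ideal S, P.IsPrime ∧ G ∈ P ∧ H ∈ P ∧ ∃ j, (X j : S) ∉ P := by
  classical
  have hI : (Ideal.span ({G, H} : Set S)).IsHomogeneous (CohB1.polyGrading 2 k) :=
    ProjDim.Graded.span_isHomogeneous fun f hf => by
      rcases hf with rfl | hf
      exacts [⟨a, hG⟩, ⟨b, (Set.mem_singleton_iff.1 hf).symm ▸ hH⟩]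
  have hle : Ideal.span ({G, H} : Set S) ≤ ProjDim.Graded.irr 2 k := Ideal.span_le.2 fun f hf => by
    rcases hf with rfl | hf
    exacts [ProjDim.Graded.mem_irr_of_isHomogeneous hG ha,
      (Set.mem_singleton_iff.1 hf).symm ▸ ProjDim.Graded.mem_irr_of_isHomogeneous hH hb]
  obtain ⟨P, hP, -⟩ := ProjDim.Graded.exists_minimalPrime_le_irr hle
  refine ⟨P, hP.1.1, hP.1.2 (Ideal.subset_span (by simp)), hP.1.2 (Ideal.subset_span (by simp)), ?_⟩
  by_contra hall
  push Not at hall
  have hirr : ProjDim.Graded.irr 2 k ≤ P := by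
    intro f hf
    have hspan : f ∈ Ideal.span (Set.range (X : Fin 3 → S)) := by
      rw [← Set.image_univ, mem_ideal_span_X_image]
      intro m hm
      have hm0 : m ≠ 0 := fun e => (mem_support_iff.1 hm) (e ▸ ProjDim.Graded.mem_irr.1 hf)
      obtain ⟨i, hi⟩ := Finsupp.ne_iff.1 hm0
      exact ⟨i, trivial, by simpa using hi⟩
    exact Ideal.span_le.2 (by rintro _ ⟨i, rfl⟩; exact hall i) hspan
  have := hP.1.1
  have h1 := ProjDim.Tensor.dimQ_le_add_of_minimalPrimes (k := k) (⊥ : Ideal S) P {G, H}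
    (by simpa using hP)
  haveI := (ProjDim.Graded.irr_isMaximal (n := 2) (k := k)).isPrime
  have h2 : Dim.Basic.dimQ k P ≤ 0 := by
    have := Dim.Basic.dimQ_anti k hirr
    rwa [ProjDim.Graded.dimQ_irr] at this
  rw [ProjDim.Graded.dimQ_bot_poly] at h1
  have h3 := Finset.card_le_two (a := G) (b := H)
  omega

theorem exists_quot {F P : S} {d n : ℕ} (hF : F.IsHomogeneous d) (hF0 : F ≠ 0)
    (hP : P.IsHomogeneous n) (hdvd : F ∣ P) :
    P = 0 ∨ d ≤ n ∧ ∃ Q : S, Q.IsHomogeneous (n - d) ∧ P = F * Q := by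
  obtain ⟨c, rfl⟩ := hdvd
  rcases eq_or_ne c 0 with rfl | hc
  · exact Or.inl (mul_zero F)
  refine Or.inr ?_
  have hdeg : d + c.totalDegree = n := by
    have h1 := hP.totalDegree (mul_ne_zero hF0 hc)
    rwa [totalDegree_mul_of_isDomain hF0 hc, hF.totalDegree hF0] at h1
  refine ⟨by omega, homogeneousComponent (n - d) c, homogeneousComponent_isHomogeneous _ _, ?_⟩
  have h2 := DirectSum.coe_decompose_mul_of_left_mem_of_le (CohB1.polyGrading 2 k) (n := n) (b := c)
    ((mem_homogeneousSubmodule d F).2 hF) (by omega)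
  rw [ProjDim.Graded.decompose_apply, ProjDim.Graded.decompose_apply] at h2
  rw [← h2, homogeneousComponent_of_mem ((mem_homogeneousSubmodule n _).2 hP), if_pos rfl]

theorem not_X_dvd {F : S} {d : ℕ} (hF : F.IsHomogeneous d) (hd : 2 ≤ d) (hp : Prime F) (j : Fin 3) :
    ¬ (X j : S) ∣ F := by
  intro h
  have h1 := ((X_prime (i := j)).associated_of_dvd hp h).symm
  obtain ⟨u, hu⟩ := h1
  have h2 := hF.totalDegree hp.ne_zero
  have h3 : (F * (u : S)).totalDegree = 1 := by rw [hu, totalDegree_X]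
  rw [totalDegree_mul_of_isDomain hp.ne_zero u.ne_zero] at h3
  omega

theorem not_dvd_X_pow {F : S} {d : ℕ} (hF : F.IsHomogeneous d) (hd : 2 ≤ d) (hp : Prime F)
    (j : Fin 3) (m : ℕ) : ¬ F ∣ (X j : S) ^ m := fun h =>
  not_X_dvd hF hd hp j ((hp.associated_of_dvd X_prime (hp.dvd_of_dvd_pow h)).symm.dvd)

/-- Divisibility is seen on a chart. -/
theorem dvd_iff_dehom {F P : S} {d n : ℕ} (hF : F.IsHomogeneous d) (hd : 2 ≤ d) (hp : Prime F)
    (hP : P.IsHomogeneous n) (j : Fin 3) : dehomJ k j F ∣ dehomJ k j P ↔ F ∣ P := by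
  refine ⟨fun ⟨q, hq⟩ => ?_, map_dvd (dehomJ k j)⟩
  obtain ⟨m, Q, hQ, rfl⟩ := exists_homog j q
  have hz : P * X j ^ (d + m) - F * Q * X j ^ n = 0 := by
    refine (dehomJ_eq_zero_iff j (n := n + (d + m)) ?_).1 ?_
    · refine IsHomogeneous.sub (by simpa using hP.mul ((isHomogeneous_X k j).pow (d + m))) ?_
      rw [show n + (d + m) = d + m + n by omega]
      simpa using (hF.mul hQ).mul ((isHomogeneous_X k j).pow n)
    · simp only [map_sub, map_mul, map_pow, dehomJ_X_self, one_pow, mul_one, hq, sub_self]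
  exact (hp.dvd_or_dvd ⟨Q * X j ^ n, by rw [sub_eq_zero.1 hz, mul_assoc]⟩).resolve_right
    (not_dvd_X_pow hF hd hp j _)

theorem prime_dehom_mem {F : S} {d : ℕ} (hF : F.IsHomogeneous d) (hd : 2 ≤ d) (hp : Prime F)
    (j : Fin 3) {a b : R} (h : dehomJ k j F ∣ a * b) : dehomJ k j F ∣ a ∨ dehomJ k j F ∣ b := by
  obtain ⟨m, A, hA, rfl⟩ := exists_homog j a
  obtain ⟨n, B, hB, rfl⟩ := exists_homog j b
  rw [← map_mul, dvd_iff_dehom hF hd hp (hA.mul hB)] at h
  exact (hp.dvd_or_dvd h).imp (map_dvd _) (map_dvd _)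

theorem not_isUnit_dehom {F : S} {d : ℕ} (hF : F.IsHomogeneous d) (hd : 2 ≤ d) (hp : Prime F)
    (j : Fin 3) : ¬ IsUnit (dehomJ k j F) := fun h =>
  hp.not_unit (isUnit_of_dvd_one ((dvd_iff_dehom hF hd hp (isHomogeneous_one _ _) j).1
    (by rw [map_one]; exact isUnit_iff_dvd_one.1 h)))

/-- The substitution `T_a = 0`. -/
def σ (a : Fin 3) : S →ₐ[k] S := aeval (fun i => if i = a then 0 else X i)

theorem X_dvd_iff_σ (a : Fin 3) (P : S) : (X a : S) ∣ P ↔ σ a P = 0 := by
  refine ⟨fun ⟨c, hc⟩ => by simp [σ, hc], fun h => ?_⟩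
  have : ∀ Q : S, (X a : S) ∣ Q - σ a Q := fun Q => by
    induction Q using MvPolynomial.induction_on with
    | C c => simp [σ]
    | add p q hp hq => rw [map_add, add_sub_add_comm]; exact dvd_add hp hq
    | mul_X p i hp =>
      rw [map_mul]
      by_cases hi : i = a
      · subst hi; simp [σ]
      · rw [show σ a (X i) = X i by simp [σ, hi], ← sub_mul]
        exact hp.mul_right _
  simpa [h] using this P

/-- The key gluing: `(T_b^N, T_c^N) P ⊆ (T_a^N, F)` forces `P ∈ (T_a^N, F)`. -/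
theorem mem_of_pow_mul {F : S} {a b c : Fin 3} (hab : b ≠ a) (hac : c ≠ a) (hbc : b ≠ c)
    (haF : ¬ (X a : S) ∣ F) (M N : ℕ) : ∀ (P : S), (∃ u v, X b ^ M * P = X a ^ N * u + F * v) →
      (∃ u v, X c ^ M * P = X a ^ N * u + F * v) → ∃ u v, P = X a ^ N * u + F * v := by
  induction N with
  | zero => exact fun P _ _ => ⟨P, 0, by rw [pow_zero, one_mul, mul_zero, add_zero]⟩
  | succ N ih =>
    rintro P ⟨u₁, v₁, h₁⟩ ⟨u₂, v₂, h₂⟩
    letI := UniqueFactorizationMonoid.toGCDMonoid S
    have hσF : σ a F ≠ 0 := fun e => haF ((X_dvd_iff_σ a F).2 e)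
    have hσa : σ a (X a : S) = 0 := by simp [σ]
    have hrel : IsRelPrime ((X b : S) ^ M) ((X c : S) ^ M) :=
      (X_prime.irreducible.isRelPrime_iff_not_dvd.2 fun h => hbc (by simpa [X_dvd_X] using h)).pow
    have k₁ : σ a F ∣ X b ^ M * σ a P := by
      have e := congrArg (σ a) h₁
      simp only [map_mul, map_add, map_pow, hσa, zero_pow (Nat.succ_ne_zero N), zero_mul, zero_add] at e
      rw [show σ a (X b) = X b by simp [σ, hab]] at e
      exact ⟨_, e⟩
    have k₂ : σ a F ∣ X c ^ M * σ a P := by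
      have e := congrArg (σ a) h₂
      simp only [map_mul, map_add, map_pow, hσa, zero_pow (Nat.succ_ne_zero N), zero_mul, zero_add] at e
      rw [show σ a (X c) = X c by simp [σ, hac]] at e
      exact ⟨_, e⟩
    obtain ⟨w, hw⟩ : σ a F ∣ σ a P := by
      have hu : IsUnit (gcd ((X b : S) ^ M) ((X c : S) ^ M)) :=
        gcd_isUnit_iff_isRelPrime.2 hrel
      exact ((dvd_gcd k₁ k₂).trans (gcd_mul_right' _ _ _).dvd).trans
        ((associated_unit_mul_left (σ a P) _ hu).dvd)
    have hσσ : ∀ Q : S, σ a (σ a Q) = σ a Q := fun Q => by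
      have hc : (σ (k := k) a).comp (σ a) = σ a := MvPolynomial.algHom_ext fun i => by
        by_cases hi : i = a <;> simp [σ, hi]
      exact AlgHom.congr_fun hc Q
    obtain ⟨P', hP'⟩ : (X a : S) ∣ P - F * σ a w := by
      rw [X_dvd_iff_σ, map_sub, map_mul, hσσ, sub_eq_zero]
      have := congrArg (σ a) hw
      rwa [hσσ, map_mul, hσσ] at this
    have step : ∀ (i : Fin 3) (u v : S), X i ^ M * P = X a ^ (N + 1) * u + F * v →
        ∃ u' v', X i ^ M * P' = X a ^ N * u' + F * v' := by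
      intro i u v h
      have h' : X a * (X i ^ M * P' - X a ^ N * u) = F * (v - X i ^ M * σ a w) := by
        linear_combination (norm := ring_nf) h - X i ^ M * hP'
      obtain ⟨v', hv'⟩ := ((X_prime (i := a)).dvd_or_dvd ⟨_, h'.symm⟩).resolve_left haF
      refine ⟨u, v', mul_left_cancel₀ (X_ne_zero a) ?_⟩
      linear_combination (norm := ring_nf) h' + F * hv'
    obtain ⟨u, v, hP⟩ := ih P' (step b u₁ v₁ h₁) (step c u₂ v₂ h₂)
    exact ⟨u, σ a w + X a * v, by linear_combination (norm := ring_nf) hP' + X a * hP⟩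

end Groth.Agent.Lib.PlaneCurve.Graded
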