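import Groth.Agent.Lib.PlaneCurve.Sections
import Groth.Agent.Lib.CurveFF.Embedded
import Groth.Agent.Lib.SchTopo.Basic
import Mathlib.AlgebraicGeometry.Morphisms.FlatRank

/-!
Canonical ratios generate the function field of a smooth plane curve.
-/

noncomputable section
set_option autoImplicit false
set_option backward.isDefEq.respectTransparency.types false
set_option linter.style.haveILetI false
universe u v

open CategoryTheory CategoryTheory.Limits AlgebraicGeometry
open Groth.Agent.Lib.FunFld.Degree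

namespace Groth.Agent.Lib.PlaneCurve

attribute [local instance] Curv2.stalkAlgebra

/-- A finite flat cover of constant positive rank keeps the dimension. -/
theorem dim_eq_of_cover {X Y : Scheme.{u}} (f : X ⟶ Y) [IsFinite f] [Flat f]
    [LocallyOfFinitePresentation f] (hf : ∀ y, 1 ≤ f.finrank y) :
    topologicalKrullDim X = topologicalKrullDim Y := by
  haveI : Surjective f := (Scheme.Hom.one_le_finrank_iff_surjective (f := f)).1 hf
  exact le_antisymm
    (SchTopo.Basic.topologicalKrullDim_le_of_specializes_eq f fun x y h e =>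
      SchTopo.Basic.isIntegralHom_eq_of_specializes f h e)
    (SchTopo.Basic.topologicalKrullDim_le_of_specializingMap f f.isClosedMap.specializingMap f.surjective)

section Field

variable {k : Type u} {K : Type v} [Field k] [Field K] [Algebra k K]

/-- Ratios inside a special series lie in the field of a canonical series. -/
theorem ratio_mem (hK : _root_.FunFld.IsFunctionField k K) {W₀ H : _root_.FunFld.Divisor k K}
    (hW : W₀.deg = 2 * (_root_.FunFld.genus k K : ℤ) - 2)
    (hWl : _root_.FunFld.genus k K ≤ _root_.FunFld.ell W₀)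
    (hH : H.deg + 1 - (_root_.FunFld.genus k K : ℤ) < _root_.FunFld.ell H)
    {E : IntermediateField k K} (hE : ∀ y ∈ _root_.FunFld.L W₀, y ∈ E) {a b : K}
    (ha : a ∈ _root_.FunFld.L H) (hb : b ∈ _root_.FunFld.L H) : a / b ∈ E := by
  rcases eq_or_ne b 0 with rfl | hb0
  · rw [div_zero]; exact E.zero_mem
  rcases eq_or_ne a 0 with rfl | ha0
  · rw [zero_div]; exact E.zero_mem
  obtain ⟨W, hWc⟩ := FunFld.Weil.exists_isCanonical hK
  have h1 := FunFld.Weil.riemann_roch hK hWc W₀
  obtain ⟨f, hf, hfe⟩ := FunFld.SmallGenus.exists_div_of_deg_zero hK (E := W - W₀) (by omega)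
    (by rw [deg_sub, FunFld.Weil.deg_canonical hK hWc, hW]; ring)
  have h2 := FunFld.Weil.riemann_roch hK hWc H
  have h3 : W - H = (W₀ - H) + _root_.FunFld.div k f := by
    rw [← hfe]; abel
  rw [h3, FunFld.Riemann.ell_add_div hK _ hf] at h2
  obtain ⟨z, hz0, hz⟩ := FunFld.Riemann.exists_ne_zero_of_ell_pos
    (show 0 < _root_.FunFld.ell (W₀ - H) by omega)
  have hmul : ∀ c ∈ _root_.FunFld.L H, c ≠ 0 → z * c ∈ _root_.FunFld.L W₀ := by
    intro c hc hc0
    refine mem_L_iff_ord.2 (Or.inr fun P => ?_)
    have e1 := (mem_L_iff_ord.1 hz).resolve_left hz0 P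
    have e2 := (mem_L_iff_ord.1 hc).resolve_left hc0 P
    rw [Finsupp.sub_apply] at e1
    rw [FunFld.Place.ord_mul P hz0 hc0]
    linarith
  rw [show a / b = z * a / (z * b) by rw [mul_div_mul_left _ _ hz0]]
  exact div_mem (hE _ (hmul a ha ha0)) (hE _ (hmul b hb hb0))

end Field

variable {k : Type u} [Field k] {d : ℕ} (F : LefPen.Form 2 k d)
  [(crv F).Over (Spec (CommRingCat.of k))] [IsIntegral (crv F)]
  [Smooth (emb F ≫ CohB1.ProjSpace.toSpec 2 k)]
  [IsProper (crv F ↘ Spec (CommRingCat.of k))]

/-- A canonical series of a smooth plane curve of degree at least four is not rational over a proper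
subfield. -/
theorem eq_top_of_canonical
    (hov : crv F ↘ Spec (CommRingCat.of k) = emb F ≫ CohB1.ProjSpace.toSpec 2 k)
    (hd : 4 ≤ d) (hF : F ≠ 0) (h : CurveFF.CurveHyp (crv F))
    (hK : _root_.FunFld.IsFunctionField k (crv F).functionField)
    {W₀ : _root_.FunFld.Divisor k (crv F).functionField}
    (hW : W₀.deg = 2 * (_root_.FunFld.genus k (crv F).functionField : ℤ) - 2)
    (hWl : _root_.FunFld.genus k (crv F).functionField ≤ _root_.FunFld.ell W₀)
    {E : IntermediateField k (crv F).functionField}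
    (hE : ∀ y ∈ _root_.FunFld.L W₀, y ∈ E) : E = ⊤ := by
  have hinv : PicF.IsInvertible (Twist.twistProjSpace 2 k 1) :=
    ProjTilde.Invertible.twist_isInvertible_of_cover (fun y => by
      obtain ⟨c, hc⟩ := ProjMor.Main.cover (ProjMor.Poly.lin_mem 2 k) (ProjMor.Poly.adjoin_lin 2 k) y
      exact ⟨c, c.2, hc⟩) 1
  obtain ⟨R⟩ := CurveFF.LineDiv.nonempty_rep (PicLoc.isInvertible_pullback (emb F) hinv)
  obtain ⟨hl, hdeg, hgen⟩ := numerics F hov (by omega) hF R h hK
  have hd' : (4 : ℤ) ≤ d := by exact_mod_cast hd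
  have hsp : (R.div h hK).deg + 1 - (_root_.FunFld.genus k (crv F).functionField : ℤ) <
      _root_.FunFld.ell (R.div h hK) := by
    rw [hl, hdeg]; push_cast; nlinarith
  refine eq_top_iff.2 fun f _ => CurveFF.Embedded.mem_of_closedImmersion R (emb F) hov.symm (Iso.refl _) E
    (fun s t => ratio_mem hK hW hWl hsp hE ?_ ?_) f
  all_goals
    intro P
    obtain ⟨x, rfl⟩ := CurveFF.placeOf_surjective (k := k) h P
    exact (R.mem_div h hK x _).1 ⟨_, R.pr_germ (U := ⊤) (x := x.1) trivial _⟩

end Groth.Agent.Lib.PlaneCurve
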